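import Groth.Prelude.Def_QFDual
import Mathlib

/-! Ring maps inducing open immersions: flatness, injectivity on primes, isomorphic local rings. -/

set_option autoImplicit false
set_option linter.style.haveILetI false
set_option backward.isDefEq.respectTransparency false
universe u

namespace Groth.Agent.QFDualLib

open AlgebraicGeometry CategoryTheory

variable {B' B : Type u} [CommRing B'] [CommRing B] [Algebra B' B]
  (hop : IsOpenImmersion (Spec.map (CommRingCat.ofHom (algebraMap B' B))))

include hop in
theorem flat_of_isOpenImmersion : Module.Flat B' B := by
  have h : Flat (Spec.map (CommRingCat.ofHom (algebraMap B' B))) := inferInstance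
  rw [HasRingHomProperty.Spec_iff (P := @Flat)] at h
  exact RingHom.flat_algebraMap_iff.1 h

include hop in
theorem comap_injective : Function.Injective (PrimeSpectrum.comap (algebraMap B' B)) :=
  hop.base_open.injective

include hop in
theorem localRingHom_bijective (q : Ideal B) [q.IsPrime] :
    Function.Bijective (Localization.localRingHom (q.comap (algebraMap B' B)) q (algebraMap B' B) rfl) := by
  let φ := CommRingCat.ofHom (algebraMap B' B)
  haveI : IsOpenImmersion (Spec.map φ) := hop
  have h : (MorphismProperty.isomorphisms CommRingCat.{u}) ((Spec.map φ).stalkMap ⟨q, inferInstance⟩) :=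
    inferInstanceAs (IsIso _)
  rw [(MorphismProperty.isomorphisms CommRingCat.{u}).arrow_mk_iso_iff (Scheme.arrowStalkMapSpecIso φ ⟨q, inferInstance⟩)] at h
  haveI : IsIso (CommRingCat.ofHom (Localization.localRingHom (q.comap (algebraMap B' B)) q (algebraMap B' B) rfl)) := h
  exact ConcreteCategory.bijective_of_isIso (CommRingCat.ofHom (Localization.localRingHom (q.comap (algebraMap B' B)) q (algebraMap B' B) rfl))

include hop in
theorem flat_localization {A : Type u} [CommRing A] [Algebra A B'] [Algebra A B] [IsScalarTower A B' B]
    [Module.Flat A B] (q : Ideal B) [q.IsPrime] :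
    Module.Flat A (Localization.AtPrime (q.comap (algebraMap B' B))) := by
  haveI : Module.Flat B (Localization.AtPrime q) := IsLocalization.flat _ q.primeCompl
  haveI : Module.Flat A (Localization.AtPrime q) := Module.Flat.trans A B _
  let e : Localization.AtPrime (q.comap (algebraMap B' B)) →ₐ[A] Localization.AtPrime q :=
    { Localization.localRingHom (q.comap (algebraMap B' B)) q (algebraMap B' B) rfl with
      commutes' := fun a => by
        show Localization.localRingHom _ q (algebraMap B' B) rfl _ = _
        rw [IsScalarTower.algebraMap_apply A B' (Localization.AtPrime (q.comap (algebraMap B' B))),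
          Localization.localRingHom_to_map, ← IsScalarTower.algebraMap_apply,
          ← IsScalarTower.algebraMap_apply] }
  exact Module.Flat.of_linearEquiv (LinearEquiv.ofBijective e.toLinearMap (localRingHom_bijective hop q))

end Groth.Agent.QFDualLib
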