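import Groth.Agent.QFDualLib.Fibre
import Groth.Agent.QFDualLib.Open
import Groth.Agent.GorMor.FiniteLocus
import Groth.Agent.SyntLib.Field
import Groth.Agent.SyntLib.Rel
import Groth.Agent.Goren.Equiv
import Groth.Agent.Goren.Ring

/-! Over a field, a quasi-finite local complete intersection has invertible dualizing module. -/

set_option autoImplicit false
set_option linter.style.haveILetI false
set_option synthInstance.maxHeartbeats 200000
set_option maxHeartbeats 1000000
universe u

namespace Groth.Agent.QFDualLib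

open TensorProduct AlgebraicGeometry CategoryTheory

theorem finite_omega_of_finite {A B : Type u} [CommRing A] [IsNoetherianRing A] [CommRing B] [Algebra A B]
    [Module.Finite A B] : Module.Finite B (Disc.Omega A B) := by
  classical
  haveI : Module.FinitePresentation A B := Module.finitePresentation_of_finite A B
  obtain ⟨S, hS⟩ := Module.Finite.fg_top (R := A) (M := B →ₗ[A] A)
  refine ⟨⟨S.image Disc.Omega.mk, top_le_iff.1 fun φ _ => ?_⟩⟩
  have hφ : φ.toLinearMap ∈ Submodule.span A (S : Set (B →ₗ[A] A)) := hS ▸ Submodule.mem_top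
  suffices ∀ x ∈ Submodule.span A (S : Set (B →ₗ[A] A)),
      (⟨x⟩ : Disc.Omega A B) ∈ Submodule.span B (↑(S.image Disc.Omega.mk) : Set (Disc.Omega A B)) by
    convert this _ hφ
  intro x hx
  induction hx using Submodule.span_induction with
  | mem x hx => exact Submodule.subset_span (Finset.mem_image_of_mem _ hx)
  | zero => exact Submodule.zero_mem _
  | add x y _ _ hx hy => exact Submodule.add_mem _ hx hy
  | smul a x _ hx =>
    rw [show (⟨a • x⟩ : Disc.Omega A B) = algebraMap A B a • (⟨x⟩ : Disc.Omega A B) from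
      Disc.Omega.ext (algebraMap_smul_toLinearMap a (⟨x⟩ : Disc.Omega A B)).symm]
    exact Submodule.smul_mem _ _ hx

/-- A finite module over a Noetherian ring which is free of rank one at every prime is invertible. -/
theorem invertible_of_local {B N : Type u} [CommRing B] [IsNoetherianRing B] [AddCommGroup N] [Module B N]
    [Module.Finite B N]
    (h : ∀ (q : Ideal B) [q.IsPrime],
      Nonempty (Localization.AtPrime q ⊗[B] N ≃ₗ[Localization.AtPrime q] Localization.AtPrime q)) :
    Module.Invertible B N := by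
  haveI : Module.FinitePresentation B N := Module.finitePresentation_of_finite B _
  haveI : Module.Projective B N := Module.projective_of_localization_maximal fun I hI => by
    obtain ⟨e⟩ := h I
    exact Module.Projective.of_equiv ((LocalizedModule.equivTensorProduct I.primeCompl N).trans e).symm
  refine invertible_of_rankAtStalk fun q => ?_
  obtain ⟨e⟩ := h q.asIdeal
  rw [Module.rankAtStalk_eq_finrank_tensorProduct, e.finrank_eq, Module.finrank_self]

theorem gorenstein_of_isLCIOver {k S : Type u} [Field k] [CommRing S] [Algebra k S] (h : Synt.IsLCIOver k S)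
    (q : Ideal S) [q.IsPrime] : LocCoh.IsGorensteinLocalRing (Localization.AtPrime q) := by
  obtain ⟨R, _, hR, _, -, rs, hm, hreg, ⟨e⟩⟩ := SyntLib.isCIOver_of_isLCIOver h q
  haveI := hR
  haveI : LocCoh.IsGorensteinLocalRing R := Goren.isGorenstein_of_regular R
  haveI : Nontrivial (R ⧸ Ideal.ofList rs) := e.toEquiv.symm.nontrivial
  haveI : IsLocalRing (R ⧸ Ideal.ofList rs) := IsLocalRing.of_surjective' _ Ideal.Quotient.mk_surjective
  exact (Goren.gorenstein_equiv_iff e.toRingEquiv).2
    ((Goren.gorenstein_iff_quot_list _ R rs rfl hreg.toIsWeaklyRegular hm).1 inferInstance)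

theorem gorenstein_fibLocRing_iff {κ F : Type u} [Field κ] [CommRing F] [Algebra κ F] (q : Ideal F) [q.IsPrime] :
    LocCoh.IsGorensteinLocalRing (EGA4.FibLocRing κ F q) ↔ LocCoh.IsGorensteinLocalRing (Localization.AtPrime q) := by
  have hzero : (q.comap (algebraMap κ F)).map (algebraMap κ (Localization.AtPrime q)) = ⊥ := by
    haveI : (q.comap (algebraMap κ F)).IsPrime := Ideal.IsPrime.comap _
    rw [((Ideal.eq_bot_or_top _).resolve_right (Ideal.IsPrime.ne_top ‹_›) : q.comap (algebraMap κ F) = ⊥),
      Ideal.map_bot]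
  haveI : Nontrivial (EGA4.FibLocRing κ F q) := ((Ideal.quotEquivOfEq hzero).trans
    (RingEquiv.quotientBot _)).toEquiv.nontrivial
  haveI : IsLocalRing (EGA4.FibLocRing κ F q) := IsLocalRing.of_surjective' _ Ideal.Quotient.mk_surjective
  exact Goren.gorenstein_equiv_iff ((Ideal.quotEquivOfEq hzero).trans (RingEquiv.quotientBot _))

theorem invertible_omega_field_of_gorenstein {κ B' B : Type u} [Field κ] [CommRing B'] [Algebra κ B']
    [Module.Finite κ B'] [CommRing B] [IsNoetherianRing B] [Algebra B' B] [Algebra κ B] [IsScalarTower κ B' B]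
    (hop : IsOpenImmersion (Spec.map (CommRingCat.ofHom (algebraMap B' B))))
    (hgor : ∀ (q : Ideal B) [q.IsPrime], LocCoh.IsGorensteinLocalRing (Localization.AtPrime q)) :
    Module.Invertible B (QFDual.omega κ B' B) := by
  haveI : IsNoetherianRing B' := IsNoetherianRing.of_finite κ B'
  haveI := finite_omega_of_finite (A := κ) (B := B')
  refine invertible_of_local fun q hq => ?_
  let T := Localization.AtPrime q
  let q' := q.comap (algebraMap B' B)
  let ρ : Localization.AtPrime q' →ₐ[B'] T :=
    { Localization.localRingHom q' q (algebraMap B' B) rfl with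
      commutes' := fun b => by
        show Localization.localRingHom q' q (algebraMap B' B) rfl (algebraMap B' (Localization.AtPrime q') b) = _
        rw [Localization.localRingHom_to_map, IsScalarTower.algebraMap_apply B' B T] }
  let ρe := AlgEquiv.ofBijective ρ (localRingHom_bijective hop q)
  haveI : IsLocalization q'.primeCompl T := IsLocalization.isLocalization_of_algEquiv _ ρe
  have hG' : LocCoh.IsGorensteinLocalRing (Localization.AtPrime q') :=
    (Goren.gorenstein_equiv_iff ρe.toRingEquiv).2 (hgor q)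
  have hfib : LocCoh.IsGorensteinLocalRing (EGA4.FibLocRing κ B' q') := (gorenstein_fibLocRing_iff q').2 hG'
  obtain ⟨φ₀, s, hs, hgen⟩ := (GorMor.gorenstein_fibre_iff q').1 hfib
  let φ : Disc.Omega κ B' := ⟨φ₀⟩
  have hgen' : ∀ χ : Disc.Omega κ B', ∃ b : B', s • χ = b • φ := fun χ => by
    obtain ⟨b, hb⟩ := hgen χ.toLinearMap
    exact ⟨b, Disc.Omega.ext hb⟩
  let M := T ⊗[B'] Disc.Omega κ B'
  haveI : IsLocalizedModule q'.primeCompl (TensorProduct.mk B' T (Disc.Omega κ B') 1) :=
    (isLocalizedModule_iff_isBaseChange q'.primeCompl T _).2 (TensorProduct.isBaseChange _ _ _)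
  obtain ⟨v, hv⟩ := (IsLocalization.map_units T (⟨s, hs⟩ : q'.primeCompl)).exists_left_inv
  let f : T →ₗ[T] M := LinearMap.toSpanSingleton T M ((1 : T) ⊗ₜ φ)
  have hsurj : Function.Surjective f := by
    rw [← LinearMap.range_eq_top]
    refine top_le_iff.1 fun x _ => ?_
    induction x using TensorProduct.induction_on with
    | zero => exact Submodule.zero_mem _
    | add x y hx hy => exact Submodule.add_mem _ (hx Submodule.mem_top) (hy Submodule.mem_top)
    | tmul t χ =>
      obtain ⟨b, hb⟩ := hgen' χ
      refine ⟨t * v * algebraMap B' T b, ?_⟩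
      show (t * v * algebraMap B' T b) • ((1 : T) ⊗ₜ[B'] φ) = t ⊗ₜ χ
      rw [TensorProduct.smul_tmul', smul_eq_mul, mul_one, mul_comm (t * v), ← Algebra.smul_def,
        TensorProduct.smul_tmul, ← hb, TensorProduct.tmul_smul, TensorProduct.smul_tmul', Algebra.smul_def,
        mul_comm t v, ← mul_assoc, mul_comm _ v, hv, one_mul]
  have hinj : Function.Injective f := by
    refine (injective_iff_map_eq_zero f).2 fun t ht => ?_
    obtain ⟨⟨b, c⟩, hbc⟩ := IsLocalization.surj q'.primeCompl t
    dsimp only at hbc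
    have h1 : TensorProduct.mk B' T (Disc.Omega κ B') 1 (b • φ) = 0 := by
      rw [map_smul]
      show b • ((1 : T) ⊗ₜ[B'] φ) = 0
      rw [← algebraMap_smul T b, ← hbc, mul_comm, mul_smul]
      rw [show t • ((1 : T) ⊗ₜ[B'] φ) = 0 from ht, smul_zero]
    obtain ⟨d, hd⟩ := (IsLocalizedModule.eq_zero_iff q'.primeCompl _).1 h1
    rw [Submonoid.smul_def] at hd
    have h2 : s * ((d : B') * b) = 0 := by
      refine (Module.forall_dual_apply_eq_zero_iff κ _).1 fun χ => ?_
      obtain ⟨b', hb'⟩ := hgen' ⟨χ⟩
      have h3 : ((d : B') * b) • (s • (⟨χ⟩ : Disc.Omega κ B')) = 0 := by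
        rw [hb', smul_comm, mul_smul, hd, smul_zero]
      have h4 := congrArg (fun ψ : Disc.Omega κ B' => ψ.toLinearMap 1) h3
      simp only [Disc.Omega.smul_toLinearMap_apply, Disc.Omega.zero_toLinearMap, LinearMap.zero_apply, mul_one] at h4
      exact h4
    have h5 : algebraMap B' T b = 0 := by
      refine (IsLocalization.map_eq_zero_iff q'.primeCompl T b).2 ⟨⟨s, hs⟩ * d, ?_⟩
      show s * (d : B') * b = 0
      rw [mul_assoc, h2]
    rw [h5] at hbc
    exact (IsLocalization.map_units T c).mul_left_eq_zero.1 hbc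
  exact ⟨(AlgebraTensorModule.cancelBaseChange B' B T T (Disc.Omega κ B')).trans
    (LinearEquiv.ofBijective f ⟨hinj, hsurj⟩).symm⟩

theorem invertible_omega_field {κ B' B : Type u} [Field κ] [CommRing B'] [Algebra κ B'] [Module.Finite κ B']
    [CommRing B] [Algebra B' B] [Algebra κ B] [IsScalarTower κ B' B]
    (hop : IsOpenImmersion (Spec.map (CommRingCat.ofHom (algebraMap B' B))))
    (hlci : Synt.IsLCIOver κ B) : Module.Invertible B (QFDual.omega κ B' B) :=
  haveI := hlci.1
  haveI : IsNoetherianRing B := Algebra.FiniteType.isNoetherianRing κ B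
  invertible_omega_field_of_gorenstein hop fun q _ => gorenstein_of_isLCIOver hlci q

theorem gorenstein_of_invertible_omega {κ F : Type u} [Field κ] [CommRing F] [Algebra κ F] [Module.Finite κ F]
    (h : Module.Invertible F (Disc.Omega κ F)) (q : Ideal F) [q.IsPrime] :
    LocCoh.IsGorensteinLocalRing (Localization.AtPrime q) := by
  haveI := h
  haveI : IsArtinianRing F := IsArtinianRing.of_finite κ F
  haveI : Finite (MaximalSpectrum F) := inferInstance
  haveI : Subsingleton (CommRing.Pic F) := inferInstance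
  obtain ⟨e⟩ := Module.Invertible.free_iff_linearEquiv.1 (inferInstance : Module.Free F (Disc.Omega κ F))
  rw [← gorenstein_fibLocRing_iff (κ := κ) q, GorMor.gorenstein_fibre_iff]
  refine ⟨(e.symm 1).toLinearMap, 1, fun h1 => Ideal.IsPrime.ne_top ‹_› (Ideal.eq_top_of_isUnit_mem _ h1 isUnit_one),
    fun χ => ⟨e ⟨χ⟩, ?_⟩⟩
  have h1 : (⟨χ⟩ : Disc.Omega κ F) = e ⟨χ⟩ • e.symm 1 := by
    rw [← map_smul, smul_eq_mul, mul_one, LinearEquiv.symm_apply_apply]
  rw [one_smul]
  exact congrArg Disc.Omega.toLinearMap h1

theorem isOpenImmersion_baseChange {R S R₁ S₁ : Type u} [CommRing R] [CommRing S] [CommRing R₁] [CommRing S₁]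
    [Algebra R S] [Algebra R R₁] [Algebra S S₁] [Algebra R₁ S₁] [Algebra R S₁] [IsScalarTower R R₁ S₁]
    [IsScalarTower R S S₁] (h : Algebra.IsPushout R R₁ S S₁)
    (hop : IsOpenImmersion (Spec.map (CommRingCat.ofHom (algebraMap R S)))) :
    IsOpenImmersion (Spec.map (CommRingCat.ofHom (algebraMap R₁ S₁))) := by
  haveI := h
  exact MorphismProperty.of_isPullback
    (isPullback_SpecMap_of_isPushout _ _ _ _ (CommRingCat.isPushout_of_isPushout R R₁ S S₁)).flip hop

end Groth.Agent.QFDualLib
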