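import Groth.Prelude.Def_QFDual
import Groth.Agent.ComodDualEx.Invariants
import Mathlib

/-! Base change of `Disc.Omega` along a pushout square: it is a base change of `B`-modules as soon as
the `A`-dual is a base change, e.g. for finite free `B`, or finitely presented `B` and flat `A → A'`. -/

set_option autoImplicit false
set_option linter.style.haveILetI false
universe u

namespace Groth.Agent.QFDualLib

open TensorProduct

variable {A B A' B' : Type u} [CommRing A] [CommRing B] [CommRing A'] [CommRing B']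
  [Algebra A B] [Algebra A A'] [Algebra B B'] [Algebra A' B'] [Algebra A B']
  [IsScalarTower A A' B'] [IsScalarTower A B B'] (h : Algebra.IsPushout A A' B B')

theorem algebraMap_smul_toLinearMap (a : A) (φ : Disc.Omega A B) :
    (algebraMap A B a • φ).toLinearMap = a • φ.toLinearMap := by
  ext x
  simp [← Algebra.smul_def]

theorem bcFin_toLinearMap (φ : Disc.Omega A B) :
    (QFDual.bcFin h φ).toLinearMap = h.out.toDual φ.toLinearMap := rfl

theorem isBaseChange_toDual_of_flat [Module.FinitePresentation A B] [Module.Flat A A'] :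
    IsBaseChange A' h.out.toDual := by
  let ι : B →ₗ[A] B' := (IsScalarTower.toAlgHom A B B').toLinearMap
  have hι : IsBaseChange A' ι := h.out
  let T : A' ⊗[A] Module.Dual A B →ₗ[A'] Module.Dual A' B' :=
    (TensorProduct.isBaseChange A (Module.Dual A B) A').lift h.out.toDual
  have hT : ∀ (a : A') (φ : Module.Dual A B), T (a ⊗ₜ φ) = a • h.out.toDual φ := by
    intro a φ
    have h1 : (a ⊗ₜ[A] φ : A' ⊗[A] Module.Dual A B) = a • TensorProduct.mk A A' _ 1 φ := by
      simp [TensorProduct.smul_tmul']
    rw [h1, map_smul]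
    exact congrArg (a • ·) (IsBaseChange.lift_eq _ _ _)
  let R : Module.Dual A' B' → (B →ₗ[A] A') := fun ψ => ψ.restrictScalars A ∘ₗ ι
  have hR : Function.Bijective R := by
    constructor
    · intro ψ χ hψ
      exact hι.algHom_ext _ _ fun x => LinearMap.congr_fun hψ x
    · intro g
      exact ⟨hι.lift g, LinearMap.ext fun x => hι.lift_eq g x⟩
  have key : ∀ y, R (T y) = dualTensorHom A B A' (TensorProduct.comm A A' (Module.Dual A B) y) := by
    intro y
    induction y using TensorProduct.induction_on with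
    | zero =>
      ext x
      simp [R]
    | tmul a φ =>
      ext x
      show T (a ⊗ₜ φ) (ι x) = _
      rw [hT, LinearMap.smul_apply, h.out.toDual_comp_apply, TensorProduct.comm_tmul, dualTensorHom_apply,
        smul_eq_mul, Algebra.smul_def, mul_comm]
    | add x y hx hy =>
      ext z
      have h1 := LinearMap.congr_fun hx z
      have h2 := LinearMap.congr_fun hy z
      simp only [map_add, LinearMap.add_apply] at h1 h2 ⊢
      rw [← h1, ← h2]
      rfl
  have hbij : Function.Bijective T := by
    have h1 := (ComodDualEx.dualTensorHom_bijective_of_flat (k := A) (M := B) A').comp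
      (TensorProduct.comm A A' (Module.Dual A B)).bijective
    have h2 : R ∘ T = dualTensorHom A B A' ∘ TensorProduct.comm A A' (Module.Dual A B) := funext key
    rw [← h2] at h1
    exact (Function.Bijective.of_comp_iff' hR T).1 h1
  refine IsBaseChange.of_equiv (LinearEquiv.ofBijective T hbij) fun φ => ?_
  show T (1 ⊗ₜ φ) = _
  rw [hT, one_smul]

/-- The comparison map `B' ⊗_B ω_{B/A} → ω_{B'/A'}`. -/
noncomputable def cmp : B' ⊗[B] Disc.Omega A B →ₗ[B'] Disc.Omega A' B' :=
  (TensorProduct.lid B' (Disc.Omega A' B')).toLinearMap ∘ₗ QFDual.omegaBC (B₁ := B') h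

theorem cmp_tmul (b : B') (φ : Disc.Omega A B) : cmp h (b ⊗ₜ φ) = b • QFDual.bcFin h φ := rfl

variable (hd : IsBaseChange A' h.out.toDual)

include hd in
theorem cmp_bijective : Function.Bijective (cmp h) := by
  let s : A' ⊗[A] Module.Dual A B →+ B' ⊗[B] Disc.Omega A B := TensorProduct.liftAddHom
    (AddMonoidHom.mk' (fun a => AddMonoidHom.mk' (fun φ => algebraMap A' B' a ⊗ₜ[B] (⟨φ⟩ : Disc.Omega A B))
      (fun φ ψ => by rw [← TensorProduct.tmul_add]; rfl))
      (fun a b => AddMonoidHom.ext fun φ => by simp [TensorProduct.add_tmul]))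
    (fun r a φ => by
      show algebraMap A' B' (r • a) ⊗ₜ[B] (⟨φ⟩ : Disc.Omega A B) = algebraMap A' B' a ⊗ₜ[B] (⟨r • φ⟩ : Disc.Omega A B)
      have e1 : (⟨r • φ⟩ : Disc.Omega A B) = algebraMap A B r • (⟨φ⟩ : Disc.Omega A B) :=
        Disc.Omega.ext (algebraMap_smul_toLinearMap r (⟨φ⟩ : Disc.Omega A B)).symm
      rw [e1, TensorProduct.tmul_smul, TensorProduct.smul_tmul', Algebra.smul_def, Algebra.smul_def,
        map_mul, ← IsScalarTower.algebraMap_apply, ← IsScalarTower.algebraMap_apply])
  have hs : ∀ a φ, s (a ⊗ₜ φ) = algebraMap A' B' a ⊗ₜ[B] (⟨φ⟩ : Disc.Omega A B) := fun a φ => rfl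
  have hcomp : ∀ y, (cmp h (s y)).toLinearMap = hd.equiv y := by
    intro y
    induction y using TensorProduct.induction_on with
    | zero => simp
    | tmul a φ =>
      rw [hs, cmp_tmul, algebraMap_smul_toLinearMap, IsBaseChange.equiv_tmul]
      rfl
    | add x y hx hy => simp [hx, hy]
  have hmul : ∀ (a : A') y, s (a • y) = algebraMap A' B' a • s y := by
    intro a y
    induction y using TensorProduct.induction_on with
    | zero => simp
    | tmul b φ => rw [TensorProduct.smul_tmul', hs, hs, TensorProduct.smul_tmul', smul_eq_mul, smul_eq_mul, map_mul]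
    | add x y hx hy => simp [smul_add, hx, hy]
  have hsurj : Function.Surjective s := by
    intro x
    induction x using TensorProduct.induction_on with
    | zero => exact ⟨0, map_zero s⟩
    | add x y hx hy =>
      obtain ⟨p, rfl⟩ := hx
      obtain ⟨q, rfl⟩ := hy
      exact ⟨p + q, map_add s p q⟩
    | tmul b φ =>
      revert φ
      induction b using h.out.inductionOn with
      | zero => exact fun φ => ⟨0, by simp⟩
      | tmul x =>
        intro φ
        refine ⟨1 ⊗ₜ (x • φ).toLinearMap, ?_⟩
        rw [hs, map_one, TensorProduct.tmul_smul, TensorProduct.smul_tmul', Algebra.smul_def, mul_one]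
        rfl
      | smul a b hb =>
        intro φ
        obtain ⟨y, hy⟩ := hb φ
        refine ⟨a • y, ?_⟩
        rw [hmul, hy, TensorProduct.smul_tmul', smul_eq_mul, Algebra.smul_def]
      | add x y hx hy =>
        intro φ
        obtain ⟨p, hp⟩ := hx φ
        obtain ⟨q, hq⟩ := hy φ
        exact ⟨p + q, by rw [map_add, hp, hq, TensorProduct.add_tmul]⟩
  constructor
  · intro x y hxy
    obtain ⟨p, rfl⟩ := hsurj x
    obtain ⟨q, rfl⟩ := hsurj y
    have := congrArg Disc.Omega.toLinearMap hxy
    rw [hcomp, hcomp] at this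
    rw [hd.equiv.injective this]
  · intro ψ
    obtain ⟨y, hy⟩ := hd.equiv.surjective ψ.toLinearMap
    exact ⟨s y, Disc.Omega.ext (by rw [hcomp, hy])⟩

include hd in
theorem exists_lift {Q : Type u} [AddCommGroup Q] [Module B Q] [Module B' Q] [IsScalarTower B B' Q]
    (f : Disc.Omega A B →ₗ[B] Q) :
    ∃ g : Disc.Omega A' B' →ₗ[B'] Q, ∀ φ, g (QFDual.bcFin h φ) = f φ := by
  let e := LinearEquiv.ofBijective (cmp h) (cmp_bijective h hd)
  refine ⟨(TensorProduct.isBaseChange B (Disc.Omega A B) B').lift f ∘ₗ e.symm.toLinearMap, fun φ => ?_⟩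
  have h1 : e.symm (QFDual.bcFin h φ) = (1 : B') ⊗ₜ φ := by
    apply e.injective
    rw [LinearEquiv.apply_symm_apply]
    show _ = cmp h ((1 : B') ⊗ₜ φ)
    rw [cmp_tmul, one_smul]
  show (TensorProduct.isBaseChange B (Disc.Omega A B) B').lift f (e.symm _) = _
  rw [h1]
  exact IsBaseChange.lift_eq _ f φ

include hd in
theorem mem_of_bcFin_mem (S : Submodule B' (Disc.Omega A' B')) (hS : ∀ φ, QFDual.bcFin h φ ∈ S)
    (ψ : Disc.Omega A' B') : ψ ∈ S := by
  obtain ⟨x, rfl⟩ := (cmp_bijective h hd).2 ψ
  induction x using TensorProduct.induction_on with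
  | zero => simp
  | tmul b φ => rw [cmp_tmul]; exact S.smul_mem b (hS φ)
  | add x y hx hy => rw [map_add]; exact S.add_mem hx hy

include hd in
theorem omegaBC_bijective {B₁ : Type u} [CommRing B₁] [Algebra B' B₁] [Algebra B B₁]
    [IsScalarTower B B' B₁] : Function.Bijective (QFDual.omegaBC (B₁ := B₁) h) := by
  let e := LinearEquiv.ofBijective (cmp h) (cmp_bijective h hd)
  let c := TensorProduct.AlgebraTensorModule.cancelBaseChange B B' B₁ B₁ (Disc.Omega A B)
  let m : B₁ ⊗[B'] (B' ⊗[B] Disc.Omega A B) ≃ₗ[B₁] B₁ ⊗[B'] Disc.Omega A' B' :=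
    TensorProduct.AlgebraTensorModule.congr (LinearEquiv.refl B₁ B₁) e
  have h1 : ∀ x, QFDual.omegaBC (B₁ := B₁) h x = (c.symm.trans m) x := by
    intro x
    induction x using TensorProduct.induction_on with
    | zero => simp
    | tmul b φ =>
      rw [QFDual.omegaBC_tmul, LinearEquiv.trans_apply,
        TensorProduct.AlgebraTensorModule.cancelBaseChange_symm_tmul]
      show _ = b ⊗ₜ[B'] cmp h ((1 : B') ⊗ₜ φ)
      rw [cmp_tmul, one_smul]
    | add x y hx hy => simp only [map_add, hx, hy]
  have h2 : ⇑(QFDual.omegaBC (B₁ := B₁) h) = ⇑(c.symm.trans m) := funext h1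
  rw [h2]
  exact LinearEquiv.bijective _

end Groth.Agent.QFDualLib
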