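import Groth.Prelude.Def_QFDual
import Groth.Agent.S2195
import Mathlib

/-! The Dedekind complementary module and different of a finite map with étale generic fibre. -/

set_option autoImplicit false
set_option linter.style.haveILetI false
universe u

namespace Groth.Agent.QFDualLib

theorem traceForm_bijective (K L : Type u) [CommRing K] [CommRing L] [Algebra K L] [Module.Free K L]
    [Module.Finite K L] [Algebra.Etale K L] :
    Function.Bijective (fun x : L => Algebra.traceForm K L x) := by
  classical
  let b0 := Module.Free.chooseBasis K L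
  let b := b0.reindex (Fintype.equivFin _)
  have hu : IsUnit (Algebra.discr K b) := (Groth.Agent.S2195.result b).1 inferInstance
  let T : L →ₗ[K] Module.Dual K L := Algebra.traceForm K L
  have hM : LinearMap.toMatrix b b.dualBasis T = Algebra.traceMatrix K b := by
    ext i j
    rw [LinearMap.toMatrix_apply, Module.Basis.dualBasis_repr, Algebra.traceMatrix_apply]
    show Algebra.traceForm K L (b j) (b i) = _
    rw [Algebra.traceForm_apply, Algebra.traceForm_apply, mul_comm]
  exact (LinearEquiv.ofIsUnitDet (f := T) (v := b) (v' := b.dualBasis) (by rw [hM]; exact hu)).bijective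

variable {A K B L : Type u} [CommRing A] [CommRing K] [CommRing B] [CommRing L] [Algebra A K] [Algebra A B]
  [Algebra B L] [Algebra K L] [Algebra A L] [IsScalarTower A K L] [IsScalarTower A B L]
  (h : QFDual.IsDedekindDefined A K B L)

include h in
theorem isLocalizedModule : IsLocalizedModule (nonZeroDivisors A) (IsScalarTower.toAlgHom A B L).toLinearMap :=
  haveI := h.isLocalization
  isLocalizedModule_iff_isLocalization.2 inferInstance

include h in
theorem injective_algebraMap : Function.Injective (algebraMap A K) :=
  haveI := h.isFractionRing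
  IsFractionRing.injective A K

include h in
theorem exists_extend (φ : B →ₗ[A] A) :
    ∃ ψ : L →ₗ[K] K, ∀ b, ψ (algebraMap B L b) = algebraMap A K (φ b) := by
  haveI := h.isFractionRing
  haveI := isLocalizedModule h
  let e := IsLocalizedModule.lift (nonZeroDivisors A) (IsScalarTower.toAlgHom A B L).toLinearMap
    (Algebra.linearMap A K ∘ₗ φ) (IsLocalizedModule.map_units (S := nonZeroDivisors A) (Algebra.linearMap A K))
  refine ⟨e.extendScalarsOfIsLocalization (nonZeroDivisors A) K, fun b => ?_⟩
  show e ((IsScalarTower.toAlgHom A B L).toLinearMap b) = _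
  rw [IsLocalizedModule.lift_apply]
  rfl

include h in
theorem ext_of_algebraMap {M : Type u} [AddCommGroup M] [Module K M] (f g : L →ₗ[K] M)
    (hfg : ∀ b, f (algebraMap B L b) = g (algebraMap B L b)) : f = g := by
  haveI := h.isFractionRing
  haveI := isLocalizedModule h
  refine LinearMap.ext fun x => ?_
  obtain ⟨⟨b, s⟩, hs⟩ := IsLocalizedModule.surj (nonZeroDivisors A) (IsScalarTower.toAlgHom A B L).toLinearMap x
  change (s : A) • x = algebraMap B L b at hs
  rw [← algebraMap_smul K] at hs
  refine (IsLocalization.map_units K s).smul_left_cancel.1 ?_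
  rw [← map_smul, ← map_smul, hs, hfg]

include h in
theorem exists_equiv : ∃ e : QFDual.complementary A K B L ≃ₗ[B] Disc.Omega A B,
    ∀ (x : QFDual.complementary A K B L) (b : B),
      algebraMap A K ((e x).toLinearMap b) = Algebra.trace K L ((x : L) * algebraMap B L b) := by
  haveI := h.etale
  haveI := h.free
  haveI := h.finiteKL
  have hinj := injective_algebraMap h
  choose v hv using fun (x : QFDual.complementary A K B L) (b : B) => RingHom.mem_range.1 (x.2 b)
  let F : QFDual.complementary A K B L →ₗ[B] Disc.Omega A B :=
    { toFun := fun x => ⟨{ toFun := v x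
                           map_add' := fun a b => hinj (by simp only [map_add, hv, mul_add])
                           map_smul' := fun a b => hinj (by
                             rw [RingHom.id_apply, smul_eq_mul, (algebraMap A K).map_mul, hv, hv, Algebra.smul_def, (algebraMap B L).map_mul,
                               ← IsScalarTower.algebraMap_apply, IsScalarTower.algebraMap_apply A K L, mul_left_comm,
                               ← Algebra.smul_def, map_smul, smul_eq_mul]) }⟩
      map_add' := fun x y => by
        refine Disc.Omega.ext (LinearMap.ext fun b => hinj ?_)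
        show algebraMap A K (v (x + y) b) = algebraMap A K (v x b + v y b)
        rw [map_add, hv, hv, hv, Submodule.coe_add, add_mul, map_add]
      map_smul' := fun c x => by
        refine Disc.Omega.ext (LinearMap.ext fun b => hinj ?_)
        show algebraMap A K (v (c • x) b) = algebraMap A K (v x (c * b))
        rw [hv, hv, SetLike.val_smul, Algebra.smul_def, (algebraMap B L).map_mul, mul_assoc, mul_left_comm] }
  refine ⟨LinearEquiv.ofBijective F ⟨?_, ?_⟩, fun x b => hv x b⟩
  · intro x y hxy
    refine Subtype.ext ((traceForm_bijective K L).1 (ext_of_algebraMap h _ _ fun b => ?_))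
    rw [Algebra.traceForm_apply, Algebra.traceForm_apply, ← hv, ← hv]
    exact congrArg (fun t : Disc.Omega A B => algebraMap A K (t.toLinearMap b)) hxy
  · intro φ
    obtain ⟨ψ, hψ⟩ := exists_extend h φ.toLinearMap
    obtain ⟨x, hx⟩ := (traceForm_bijective K L).2 ψ
    have hxb : ∀ b, Algebra.trace K L (x * algebraMap B L b) = algebraMap A K (φ.toLinearMap b) := fun b => by
      rw [← hψ, ← hx]
      rfl
    refine ⟨⟨x, fun b => ⟨_, (hxb b).symm⟩⟩, Disc.Omega.ext (LinearMap.ext fun b => hinj ?_)⟩
    show algebraMap A K (v _ b) = _
    rw [hv, hxb]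

include h in
theorem one_mem_complementary [Module.Flat A B] : (1 : L) ∈ QFDual.complementary A K B L := by
  haveI := h.isNoetherianRing
  haveI := h.finite
  haveI := h.free
  haveI := h.finiteKL
  haveI : Module.FinitePresentation A B := Module.finitePresentation_of_finite A B
  haveI : Module.Projective A B := Module.Flat.projective_of_finitePresentation
  intro b
  obtain ⟨n, f, g, -, -, hfg⟩ := Module.Finite.exists_comp_eq_id_of_projective A B
  choose ψ hψ using fun i => exists_extend h (LinearMap.proj i ∘ₗ g)
  let m : Fin n → B := fun i => b * f (Pi.single i 1)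
  have hmul : Algebra.lmul K L (algebraMap B L b) = ∑ i, (ψ i).smulRight (algebraMap B L (m i)) := by
    refine ext_of_algebraMap h _ _ fun x => ?_
    have hx : x = ∑ i, g x i • f (Pi.single i 1) := by
      conv_lhs => rw [← LinearMap.id_apply (R := A) x, ← hfg, LinearMap.comp_apply, pi_eq_sum_univ' (g x), map_sum]
      exact Finset.sum_congr rfl fun i _ => by rw [map_smul]
    rw [LinearMap.sum_apply]
    show algebraMap B L b * algebraMap B L x = _
    conv_lhs => rw [hx, ← map_mul, Finset.mul_sum, map_sum]
    refine Finset.sum_congr rfl fun i _ => ?_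
    rw [LinearMap.smulRight_apply, hψ, algebraMap_smul, mul_smul_comm, Algebra.smul_def, map_mul,
      ← IsScalarTower.algebraMap_apply, ← Algebra.smul_def]
    rfl
  refine RingHom.mem_range.2 ⟨∑ i, g (m i) i, ?_⟩
  rw [one_mul, Algebra.trace_apply, hmul, map_sum, map_sum]
  refine Finset.sum_congr rfl fun i _ => ?_
  rw [LinearMap.trace_smulRight, hψ]
  rfl

include h in
theorem dedekindDifferent_eq [Module.Finite A B] [Module.Free A B] :
    QFDual.dedekindDifferent A K B L =
      Submodule.map (Algebra.linearMap B L) (QFDual.different B (Disc.Omega.trace A B)) := by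
  haveI := h.isFractionRing
  haveI := h.isLocalization
  obtain ⟨e, he⟩ := exists_equiv h
  have hinj := injective_algebraMap h
  have hτ : ∀ b, Algebra.trace K L (algebraMap B L b) = algebraMap A K (Algebra.trace A B b) :=
    fun b => Algebra.trace_localization A (nonZeroDivisors A) b
  have hmem : ∀ c : B, algebraMap B L c ∈ QFDual.complementary A K B L := fun c b =>
    ⟨_, by rw [← map_mul, hτ]⟩
  have hec : ∀ c : B, e ⟨algebraMap B L c, hmem c⟩ = c • Disc.Omega.trace A B := by
    intro c
    refine Disc.Omega.ext (LinearMap.ext fun b => hinj ?_)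
    rw [he, ← map_mul, hτ]
    rfl
  refine le_antisymm (fun x hx => ?_) ?_
  · have h1 : (1 : L) ∈ QFDual.complementary A K B L := by simpa using hmem 1
    obtain ⟨b0, hb0⟩ := RingHom.mem_range.1 (hx 1 h1)
    rw [mul_one] at hb0
    subst hb0
    refine ⟨b0, ?_, rfl⟩
    show b0 ∈ QFDual.different B _
    rw [QFDual.mem_different_iff]
    intro φ
    obtain ⟨c, hc⟩ := RingHom.mem_range.1 (hx _ (e.symm φ).2)
    refine ⟨c, ?_⟩
    rw [← hec]
    conv_rhs => rw [← e.apply_symm_apply φ, ← map_smul]
    congr 1
    refine Subtype.ext ?_
    rw [SetLike.val_smul, Algebra.smul_def]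
    exact hc
  · rintro _ ⟨b, hb, rfl⟩ y hy
    obtain ⟨c, hc⟩ := (QFDual.mem_different_iff B _ b).1 hb (e ⟨y, hy⟩)
    rw [← hec, ← map_smul] at hc
    have := congrArg Subtype.val (e.injective hc)
    rw [SetLike.val_smul, Algebra.smul_def] at this
    exact ⟨c, this⟩

end Groth.Agent.QFDualLib
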