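import Groth.Agent.QFDualLib.Base
import Groth.Agent.S6283

/-! The different of a finite free algebra under base change. -/

set_option autoImplicit false
set_option linter.style.haveILetI false
universe u

namespace Groth.Agent.QFDualLib

open TensorProduct

variable {A B A' B' : Type u} [CommRing A] [CommRing B] [CommRing A'] [CommRing B']
  [Algebra A B] [Algebra A A'] [Algebra B B'] [Algebra A' B'] [Algebra A B']
  [IsScalarTower A A' B'] [IsScalarTower A B B'] (h : Algebra.IsPushout A A' B B')
  [Module.Finite A B] [Module.Free A B] [Module.Finite A' B'] [Module.Free A' B']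

theorem bcFin_trace : QFDual.bcFin h (Disc.Omega.trace A B) = Disc.Omega.trace A' B' := by
  classical
  refine Disc.Omega.ext (h.out.algHom_ext _ _ fun x => ?_)
  change h.out.toDual (Algebra.trace A B) ((IsScalarTower.toAlgHom A B B').toLinearMap x) =
    Algebra.trace A' B' (algebraMap B B' x)
  rw [h.out.toDual_comp_apply]
  let b := Module.Free.chooseBasis A B
  let b' := h.out.basis b
  rw [Algebra.trace_eq_matrix_trace b, Algebra.trace_eq_matrix_trace b', Matrix.trace, Matrix.trace, map_sum]
  refine Finset.sum_congr rfl fun i _ => ?_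
  rw [Matrix.diag_apply, Matrix.diag_apply, Algebra.leftMulMatrix_eq_repr_mul,
    Algebra.leftMulMatrix_eq_repr_mul, IsBaseChange.basis_apply]
  show _ = b'.repr (algebraMap B B' x * algebraMap B B' (b i)) i
  rw [← map_mul]
  exact (h.out.basis_repr_comp_apply b (x * b i) i).symm

include h in
theorem map_different_le :
    Ideal.map (algebraMap B B') (QFDual.different B (Disc.Omega.trace A B)) ≤
      QFDual.different B' (Disc.Omega.trace A' B') := by
  rw [Ideal.map_le_iff_le_comap]
  intro r hr
  rw [QFDual.mem_different_iff] at hr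
  rw [Ideal.mem_comap, QFDual.mem_different_iff]
  intro ψ
  have hmem : algebraMap B B' r • ψ ∈ Submodule.span B' {Disc.Omega.trace A' B'} := by
    refine mem_of_bcFin_mem h h.out.dual
      ((Submodule.span B' {Disc.Omega.trace A' B'}).comap (LinearMap.lsmul B' _ (algebraMap B B' r))) ?_ ψ
    intro φ
    obtain ⟨c, hc⟩ := hr φ
    show algebraMap B B' r • QFDual.bcFin h φ ∈ Submodule.span B' {Disc.Omega.trace A' B'}
    rw [← LinearMap.map_smulₛₗ, ← hc, LinearMap.map_smulₛₗ, bcFin_trace]
    exact Submodule.smul_mem _ _ (Submodule.mem_span_singleton_self _)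
  exact Submodule.mem_span_singleton.1 hmem

theorem finite_omega : Module.Finite B (Disc.Omega A B) := by
  classical
  let b := Module.Free.chooseBasis A B
  refine Module.Finite.of_surjective
    (Fintype.linearCombination B (fun i => (⟨b.coord i⟩ : Disc.Omega A B))) fun φ => ?_
  refine ⟨fun i => algebraMap A B (φ.toLinearMap (b i)), ?_⟩
  rw [Fintype.linearCombination_apply]
  apply Disc.Omega.ext
  let F : Disc.Omega A B →+ (B →ₗ[A] A) := AddMonoidHom.mk' Disc.Omega.toLinearMap fun _ _ => rfl
  show F _ = _
  rw [map_sum]
  refine b.ext fun j => ?_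
  simp only [F, AddMonoidHom.mk'_apply, algebraMap_smul_toLinearMap, LinearMap.sum_apply, LinearMap.smul_apply,
    Module.Basis.coord_apply, Module.Basis.repr_self, smul_eq_mul, Finsupp.single_apply, mul_ite, mul_one,
    mul_zero, Finset.sum_ite_eq, Finset.mem_univ, if_true]

theorem annihilator_quot_eq : Module.annihilator B (Disc.Omega A B ⧸ Submodule.span B {Disc.Omega.trace A B}) =
    QFDual.different B (Disc.Omega.trace A B) :=
  Submodule.annihilator_quotient

include h in
theorem radical_eq :
    (Ideal.map (algebraMap B B') (QFDual.different B (Disc.Omega.trace A B))).radical =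
      (QFDual.different B' (Disc.Omega.trace A' B')).radical := by
  refine le_antisymm (Ideal.radical_mono (map_different_le h)) ?_
  rw [← Ideal.radical_idem (Ideal.map (algebraMap B B') _)]
  refine Ideal.radical_mono fun r hr => ?_
  rw [Ideal.radical_eq_sInf, Submodule.mem_sInf]
  suffices H : ∀ q' : Ideal B', Ideal.map (algebraMap B B') (QFDual.different B (Disc.Omega.trace A B)) ≤ q' →
      q'.IsPrime → r ∈ q' from fun q hq => H q hq.1 hq.2
  intro q' hJ hq'
  haveI := finite_omega (A := A) (B := B)
  let N := Disc.Omega A B ⧸ Submodule.span B {Disc.Omega.trace A B}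
  let q : Ideal B := Ideal.comap (algebraMap B B') q'
  have hq : (⟨q, inferInstance⟩ : PrimeSpectrum B) ∈ Module.support B N := by
    rw [Module.support_eq_zeroLocus, PrimeSpectrum.mem_zeroLocus, annihilator_quot_eq]
    exact Ideal.map_le_iff_le_comap.1 hJ
  rw [Module.mem_support_iff_nontrivial_residueField_tensorProduct] at hq
  obtain ⟨v, hv⟩ := exists_ne (0 : q.ResidueField ⊗[B] N)
  obtain ⟨d, hd⟩ : ∃ d : Module.Dual q.ResidueField (q.ResidueField ⊗[B] N), d v ≠ 0 := by
    by_contra hne
    push Not at hne
    exact hv ((Module.forall_dual_apply_eq_zero_iff q.ResidueField v).1 hne)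
  let j : q.ResidueField →+* q'.ResidueField := Ideal.ResidueField.map q q' (algebraMap B B') rfl
  have hj : ∀ x : B, j (algebraMap B q.ResidueField x) = algebraMap B' q'.ResidueField (algebraMap B B' x) :=
    fun x => Ideal.ResidueField.map_algebraMap _ _ _ _ _
  let f : Disc.Omega A B →ₗ[B] q'.ResidueField :=
    { toFun := fun φ => j (d ((1 : q.ResidueField) ⊗ₜ[B] Submodule.Quotient.mk φ))
      map_add' := fun φ ψ => by rw [Submodule.Quotient.mk_add, TensorProduct.tmul_add, map_add, map_add]
      map_smul' := fun x φ => by
        rw [Submodule.Quotient.mk_smul, TensorProduct.tmul_smul, ← algebraMap_smul q.ResidueField x, map_smul,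
          smul_eq_mul, map_mul, hj, RingHom.id_apply, Algebra.smul_def, IsScalarTower.algebraMap_apply B B' q'.ResidueField]}
  obtain ⟨g, hg⟩ := exists_lift h h.out.dual f
  have hf : f (Disc.Omega.trace A B) = 0 := by
    show j (d ((1 : q.ResidueField) ⊗ₜ[B] Submodule.Quotient.mk _)) = 0
    rw [(Submodule.Quotient.mk_eq_zero _).2 (Submodule.mem_span_singleton_self _), TensorProduct.tmul_zero,
      map_zero, map_zero]
  obtain ⟨φ, hφ⟩ : ∃ φ, f φ ≠ 0 := by
    by_contra hne
    push Not at hne
    refine hd ?_
    have hall : ∀ w, d w = 0 := by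
      intro w
      induction w using TensorProduct.induction_on with
      | zero => simp
      | tmul k n =>
        obtain ⟨φ, rfl⟩ := Submodule.Quotient.mk_surjective _ n
        have := j.injective ((hne φ).trans (map_zero j).symm)
        rw [show k ⊗ₜ[B] (Submodule.Quotient.mk φ : N) = k • ((1 : q.ResidueField) ⊗ₜ[B] (Submodule.Quotient.mk φ : N)) by
          rw [TensorProduct.smul_tmul', smul_eq_mul, mul_one], map_smul, this, smul_zero]
      | add x y hx hy => rw [map_add, hx, hy, add_zero]
    exact hall v
  obtain ⟨c, hc⟩ := (QFDual.mem_different_iff B' _ r).1 hr (QFDual.bcFin h φ)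
  have := congrArg g hc
  rw [map_smul, map_smul, ← bcFin_trace h, hg, hg, hf, smul_zero, Algebra.smul_def, eq_comm, mul_eq_zero,
    Ideal.algebraMap_residueField_eq_zero] at this
  exact this.resolve_right hφ

include h in
theorem map_different_eq_of_flat [Module.Flat A A'] :
    Ideal.map (algebraMap B B') (QFDual.different B (Disc.Omega.trace A B)) =
      QFDual.different B' (Disc.Omega.trace A' B') := by
  refine le_antisymm (map_different_le h) fun r hr => ?_
  haveI : Module.Flat B B' := Module.Flat.isBaseChange A B A' B' h.symm.out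
  haveI := finite_omega (A := A) (B := B)
  let S := Submodule.span B {Disc.Omega.trace A B}
  rw [← annihilator_quot_eq, (Groth.Agent.S6283.result (S := B') (Disc.Omega A B ⧸ S)).2 inferInstance,
    Module.mem_annihilator]
  let f : Disc.Omega A B →ₗ[B] B' ⊗[B] (Disc.Omega A B ⧸ S) := TensorProduct.mk B B' _ 1 ∘ₗ S.mkQ
  obtain ⟨g, hg⟩ := exists_lift h h.out.dual f
  have hkey : ∀ φ, r • f φ = 0 := by
    intro φ
    obtain ⟨c, hc⟩ := (QFDual.mem_different_iff B' _ r).1 hr (QFDual.bcFin h φ)
    have := congrArg g hc
    rw [map_smul, map_smul, ← bcFin_trace h, hg, hg] at this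
    rw [← this, show f (Disc.Omega.trace A B) = 0 by
      show (1 : B') ⊗ₜ[B] S.mkQ _ = 0
      rw [show S.mkQ (Disc.Omega.trace A B) = 0 from
        (Submodule.Quotient.mk_eq_zero _).2 (Submodule.mem_span_singleton_self _), TensorProduct.tmul_zero],
      smul_zero]
  intro w
  induction w using TensorProduct.induction_on with
  | zero => simp
  | tmul b n =>
    obtain ⟨φ, rfl⟩ := S.mkQ_surjective n
    have h1 : b ⊗ₜ[B] S.mkQ φ = b • f φ := by
      show _ = b • ((1 : B') ⊗ₜ[B] S.mkQ φ)
      rw [TensorProduct.smul_tmul', smul_eq_mul, mul_one]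
    rw [h1, smul_comm, hkey, smul_zero]
  | add x y hx hy => rw [smul_add, hx, hy, add_zero]

theorem apply_smul_comm_of_invertible {R M : Type u} [CommRing R] [AddCommGroup M] [Module R M]
    [Module.Invertible R M] (f : Module.Dual R M) (x y : M) : f x • y = f y • x := by
  have := congrArg (fun z => TensorProduct.lid R M (f.rTensor M z)) (Module.Invertible.tmul_comm (R := R) (m₁ := x) (m₂ := y))
  simpa using this

include h in
theorem map_different_eq_of_invertible [Module.Invertible B (Disc.Omega A B)] :
    Ideal.map (algebraMap B B') (QFDual.different B (Disc.Omega.trace A B)) =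
      QFDual.different B' (Disc.Omega.trace A' B') := by
  refine le_antisymm (map_different_le h) fun r hr => ?_
  have hmem : ∀ f : Module.Dual B (Disc.Omega A B),
      f (Disc.Omega.trace A B) ∈ QFDual.different B (Disc.Omega.trace A B) := by
    intro f
    rw [QFDual.mem_different_iff]
    exact fun φ => ⟨f φ, apply_smul_comm_of_invertible f φ _⟩
  have hall : ∀ x : Module.Dual B (Disc.Omega A B) ⊗[B] Disc.Omega A B,
      r * algebraMap B B' (contractLeft B _ x) ∈
        Ideal.map (algebraMap B B') (QFDual.different B (Disc.Omega.trace A B)) := by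
    intro x
    induction x using TensorProduct.induction_on with
    | zero => simp
    | tmul f φ =>
      obtain ⟨g, hg⟩ := exists_lift h h.out.dual (Algebra.linearMap B B' ∘ₗ f)
      obtain ⟨c, hc⟩ := (QFDual.mem_different_iff B' _ r).1 hr (QFDual.bcFin h φ)
      have := congrArg g hc
      rw [map_smul, map_smul, ← bcFin_trace h, hg, hg, smul_eq_mul, smul_eq_mul] at this
      rw [contractLeft_apply, show r * algebraMap B B' (f φ) = c * algebraMap B B' (f _) from this.symm]
      exact Ideal.mul_mem_left _ _ (Ideal.mem_map_of_mem _ (hmem f))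
    | add x y hx hy => rw [map_add, map_add, mul_add]; exact add_mem hx hy
  obtain ⟨x, hx⟩ := (Module.Invertible.linearEquiv B (Disc.Omega A B)).surjective 1
  have := hall x
  rw [show contractLeft B _ x = 1 from hx, map_one, mul_one] at this
  exact this

end Groth.Agent.QFDualLib
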