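import Groth.Agent.QFDualLib.Flat
import Groth.Agent.OortTate.RankOne

/-! Rank one criteria used for invertibility of the dualizing module. -/

set_option autoImplicit false
set_option linter.style.haveILetI false
universe u

namespace Groth.Agent.QFDualLib

open TensorProduct

theorem flat_localized {A B : Type u} [CommRing A] [CommRing B] [Algebra A B] {M : Type u} [AddCommGroup M]
    [Module A M] [Module B M] [IsScalarTower A B M] (S : Submonoid B) (ι : Disc.Omega A B →ₗ[B] M)
    [IsLocalizedModule S ι] (g : B) (hgS : g ∈ S) (hg : IsFactor A g) : Module.Flat A M := by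
  classical
  obtain ⟨n, φ, m, hφ⟩ := hg
  let G : Disc.Omega A B →+ (B →ₗ[A] A) := AddMonoidHom.mk' Disc.Omega.toLinearMap fun _ _ => rfl
  have hG : ∀ (a : A) χ, G (algebraMap A B a • χ) = a • G χ := fun a χ => algebraMap_smul_toLinearMap a χ
  have hsub : ∀ χ : Disc.Omega A B, g • χ = ∑ k, algebraMap A B (χ.toLinearMap (m k)) • (⟨φ k⟩ : Disc.Omega A B) := by
    intro χ
    refine Disc.Omega.ext (LinearMap.ext fun x => ?_)
    show χ.toLinearMap (g * x) = G (∑ k, _) x
    rw [← hφ x, map_sum, map_sum, LinearMap.sum_apply]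
    refine Finset.sum_congr rfl fun i _ => ?_
    rw [hG, LinearMap.smul_apply, map_smul, smul_eq_mul, smul_eq_mul, mul_comm]
    rfl
  rw [Module.Flat.iff_forall_isTrivialRelation]
  intro l f x hfx
  choose w hw using fun i => IsLocalizedModule.surj S ι (x i)
  let s : S := ∏ i, (w i).2
  let r : Fin l → B := fun i => ((∏ j ∈ Finset.univ.erase i, (w j).2 : S) : B)
  have hs : ∀ i, ι (r i • (w i).1) = (s : B) • x i := by
    intro i
    rw [map_smul, ← hw i, Submonoid.smul_def, smul_smul]
    congr 1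
    show (_ : B) * _ = _
    rw [← Submonoid.coe_mul, Finset.prod_erase_mul _ _ (Finset.mem_univ i)]
  have h0 : ι (∑ i, algebraMap A B (f i) • (r i • (w i).1)) = 0 := by
    rw [map_sum]
    calc ∑ i, ι (algebraMap A B (f i) • (r i • (w i).1)) = ∑ i, (s : B) • f i • x i :=
          Finset.sum_congr rfl fun i _ => by rw [map_smul, hs, smul_comm, algebraMap_smul]
      _ = 0 := by rw [← Finset.smul_sum, hfx, smul_zero]
  obtain ⟨t, ht⟩ := (IsLocalizedModule.eq_zero_iff S ι).1 h0
  let a : Fin l → Disc.Omega A B := fun i => (t : B) • (r i • (w i).1)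
  let v : Fin l → (Fin n → A) := fun i k => (a i).toLinearMap (m k)
  have hv : ∑ i, f i • v i = 0 := by
    funext k
    have h1 : ∑ i, algebraMap A B (f i) • a i = 0 := by
      refine Eq.trans ?_ ht
      rw [Submonoid.smul_def, Finset.smul_sum]
      exact Finset.sum_congr rfl fun i _ => smul_comm _ _ _
    have h2 := LinearMap.congr_fun (congrArg G h1) (m k)
    rw [map_sum, map_zero, LinearMap.sum_apply, LinearMap.zero_apply] at h2
    rw [Finset.sum_apply, Pi.zero_apply]
    refine Eq.trans (Finset.sum_congr rfl fun i _ => ?_) h2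
    rw [hG]
    rfl
  obtain ⟨k, c, y, hy, hc⟩ := Module.Flat.isTrivialRelation_of_sum_smul_eq_zero hv
  let out : (Fin n → A) →+ Disc.Omega A B := AddMonoidHom.mk'
    (fun z => ∑ j, algebraMap A B (z j) • (⟨φ j⟩ : Disc.Omega A B)) fun z z' => by
      simp [add_smul, Finset.sum_add_distrib]
  let u : S := ⟨g, hgS⟩ * t * s
  have hu := (Module.End.isUnit_iff _).1 (IsLocalizedModule.map_units (S := S) ι u)
  choose y' hy' using fun j => hu.2 (ι (out (y j)))
  simp only [Module.algebraMap_end_apply] at hy'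
  refine ⟨k, c, y', fun i => hu.1 ?_, hc⟩
  simp only [Module.algebraMap_end_apply, Submonoid.coe_mul, u] at hy' ⊢
  rw [Finset.smul_sum]
  have h3 : ∀ j, (g * (t : B) * (s : B)) • c i j • y' j = c i j • ι (out (y j)) := fun j => by
    rw [smul_comm, hy']
  rw [Finset.sum_congr rfl fun j _ => h3 j, mul_smul, mul_smul, ← hs, ← map_smul, ← map_smul]
  show ι (g • a i) = _
  rw [hsub]
  show ι (out (v i)) = _
  rw [hy i, map_sum, map_sum]
  refine Finset.sum_congr rfl fun j _ => ?_
  rw [← algebraMap_smul B (c i j) (ι (out (y j))), ← map_smul]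
  congr 1
  simp only [out, AddMonoidHom.mk'_apply, Finset.smul_sum, smul_smul, Pi.smul_apply, smul_eq_mul, map_mul]

theorem nonempty_equiv_of_fibre {A T M : Type u} [CommRing A] [CommRing T] [IsNoetherianRing T] [IsLocalRing T]
    [Algebra A T] [AddCommGroup M] [Module T M] [Module A M] [IsScalarTower A T M] [Module.Finite T M]
    [Module.Flat A M] (p : Ideal A) (hp : p.map (algebraMap A T) ≤ IsLocalRing.maximalIdeal T)
    (e : (T ⧸ p.map (algebraMap A T)) ⊗[T] M ≃ₗ[T] T ⧸ p.map (algebraMap A T)) : Nonempty (M ≃ₗ[T] T) := by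
  set I := p.map (algebraMap A T)
  obtain ⟨θ, hθ⟩ := TensorProduct.mk_surjective T M (T ⧸ I) Ideal.Quotient.mk_surjective (e.symm 1)
  let f : T →ₗ[T] M := LinearMap.toSpanSingleton T M θ
  have hI : I ≤ Ideal.jacobson ⊥ := hp.trans_eq (IsLocalRing.jacobson_eq_maximalIdeal ⊥ bot_ne_top).symm
  have hef : ∀ t : T, e ((1 : T ⧸ I) ⊗ₜ[T] f t) = Ideal.Quotient.mk I t := fun t => by
    rw [LinearMap.toSpanSingleton_apply, TensorProduct.tmul_smul, map_smul,
      show (1 : T ⧸ I) ⊗ₜ[T] θ = e.symm 1 from hθ, e.apply_symm_apply, Algebra.smul_def, mul_one]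
    rfl
  have hsurj : Function.Surjective f := by
    rw [← LinearMap.range_eq_top]
    apply top_le_iff.1
    refine Submodule.le_of_le_smul_of_le_jacobson_bot Module.Finite.fg_top hI fun x _ => ?_
    obtain ⟨t, ht⟩ := Ideal.Quotient.mk_surjective (e ((1 : T ⧸ I) ⊗ₜ[T] x))
    have h1 : (1 : T ⧸ I) ⊗ₜ[T] (x - f t) = 0 := e.injective (by
      rw [map_zero, TensorProduct.tmul_sub, map_sub, hef, ht, sub_self])
    have h2 : TensorProduct.quotTensorEquivQuotSMul M I ((1 : T ⧸ I) ⊗ₜ[T] (x - f t)) = 0 := by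
      rw [h1, map_zero]
    rw [← map_one (Ideal.Quotient.mk I), TensorProduct.quotTensorEquivQuotSMul_mk_tmul, one_smul,
      Submodule.Quotient.mk_eq_zero] at h2
    rw [← sub_add_cancel x (f t)]
    exact Submodule.add_mem_sup (LinearMap.mem_range_self f t) h2 |> fun h => by rwa [add_comm]
  let K := LinearMap.ker f
  have hK : K ≤ I • K := by
    intro t ht
    have htI : t ∈ I := Ideal.Quotient.eq_zero_iff_mem.1 (by
      rw [← hef, show f t = 0 from ht, TensorProduct.tmul_zero, map_zero])
    let j : K →ₗ[A] T := K.subtype.restrictScalars A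
    have hinj := LinearMap.lTensor_injective_of_exact_of_flat (R := A) (f.restrictScalars A) hsurj j
      Subtype.val_injective (fun z => ⟨fun hz => ⟨⟨z, hz⟩, rfl⟩, by rintro ⟨w, rfl⟩; exact w.2⟩) (A ⧸ p)
    have h0 : ((1 : A ⧸ p) ⊗ₜ[A] (⟨t, ht⟩ : K)) = 0 := by
      apply hinj
      rw [map_zero, LinearMap.lTensor_tmul]
      show (1 : A ⧸ p) ⊗ₜ[A] t = 0
      apply (TensorProduct.quotTensorEquivQuotSMul T p).injective
      rw [map_zero, ← map_one (Ideal.Quotient.mk p), TensorProduct.quotTensorEquivQuotSMul_mk_tmul, one_smul,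
        Submodule.Quotient.mk_eq_zero, Ideal.smul_top_eq_map]
      exact htI
    have h3 : TensorProduct.quotTensorEquivQuotSMul K p ((1 : A ⧸ p) ⊗ₜ[A] (⟨t, ht⟩ : K)) = 0 := by
      rw [h0]; exact LinearEquiv.map_zero _
    rw [← map_one (Ideal.Quotient.mk p), TensorProduct.quotTensorEquivQuotSMul_mk_tmul, one_smul,
      Submodule.Quotient.mk_eq_zero] at h3
    suffices ∀ z : K, z ∈ p • (⊤ : Submodule A K) → (z : T) ∈ I • K from this _ h3
    intro z hz
    induction hz using Submodule.smul_induction_on' with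
    | smul a ha w hw =>
      rw [Submodule.coe_smul_of_tower, ← algebraMap_smul T a (w : T)]
      exact Submodule.smul_mem_smul (Ideal.mem_map_of_mem _ ha) w.2
    | add x _ y _ hx hy => rw [Submodule.coe_add]; exact add_mem hx hy
  have hbot : K = ⊥ := Submodule.eq_bot_of_le_smul_of_le_jacobson_bot I K (IsNoetherian.noetherian K) hK hI
  exact ⟨(LinearEquiv.ofBijective f ⟨LinearMap.ker_eq_bot.1 hbot, hsurj⟩).symm⟩

theorem invertible_of_rankAtStalk {R L : Type u} [CommRing R] [AddCommGroup L] [Module R L] [Module.Finite R L]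
    [Module.Projective R L] (hL : ∀ q : PrimeSpectrum R, Module.rankAtStalk L q = 1) : Module.Invertible R L := by
  obtain ⟨n, g, f, -, -, hgf⟩ := Module.Finite.exists_comp_eq_id_of_projective R L
  let φ : Fin n → Module.Dual R L := fun i => LinearMap.proj i ∘ₗ f
  let m : Fin n → L := fun i => g (Pi.single i 1)
  have hx : ∀ x, ∑ i, φ i x • m i = x := by
    intro x
    conv_rhs => rw [← LinearMap.id_apply (R := R) x, ← hgf, LinearMap.comp_apply, pi_eq_sum_univ' (f x), map_sum]
    exact Finset.sum_congr rfl fun i _ => by rw [map_smul]; rfl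
  let t0 : Module.Dual R L ⊗[R] L := ∑ i, φ i ⊗ₜ m i
  have h1 : contractLeft R L t0 = 1 := by
    rw [map_sum, ← sub_eq_zero]
    refine OortTate.eq_zero_of_annihilates hL fun x => ?_
    rw [sub_smul, one_smul, Finset.sum_smul, sub_eq_zero]
    refine Eq.trans (Finset.sum_congr rfl fun i _ => ?_) (hx x)
    rw [contractLeft_apply, OortTate.swap_of_rank_one hL (φ i) (m i) x]
  have h2 : ∀ z, z = contractLeft R L z • t0 := fun z => by
    induction z using TensorProduct.induction_on with
    | zero => simp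
    | tmul lam M =>
      rw [contractLeft_apply, Finset.smul_sum]
      have hlam : lam = ∑ i, lam (m i) • φ i := by
        refine LinearMap.ext fun K => ?_
        conv_lhs => rw [← hx K]
        simp [LinearMap.sum_apply, mul_comm]
      conv_lhs => rw [hlam, TensorProduct.sum_tmul]
      refine Finset.sum_congr rfl fun i _ => ?_
      rw [TensorProduct.smul_tmul, ← TensorProduct.tmul_smul, OortTate.swap_of_rank_one hL lam]
    | add x y hx hy => rw [map_add, add_smul, ← hx, ← hy]
  exact ⟨⟨fun z z' h => by rw [h2 z, h2 z', h], fun r => ⟨r • t0, by rw [map_smul, h1, smul_eq_mul, mul_one]⟩⟩⟩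

end Groth.Agent.QFDualLib
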