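import Groth.Agent.QFDualLib.Base

/-! Base change of the dualizing module where the algebra is flat: elements factoring through projectives. -/

set_option autoImplicit false
set_option linter.style.haveILetI false
universe u

namespace Groth.Agent.QFDualLib

open TensorProduct

/-- Multiplication by `g` on `B` factors through a finite free `A`-module. -/
def IsFactor (A : Type u) {B : Type u} [CommRing A] [CommRing B] [Algebra A B] (g : B) : Prop :=
  ∃ (n : ℕ) (φ : Fin n → Module.Dual A B) (m : Fin n → B), ∀ x, ∑ i, φ i x • m i = g * x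

theorem exists_isFactor {A B : Type u} [CommRing A] [CommRing B] [Algebra A B] [Module.FinitePresentation A B]
    (q : Ideal B) [q.IsPrime] [Module.Flat A (Localization.AtPrime q)] : ∃ g : B, g ∉ q ∧ IsFactor A g := by
  classical
  let L := Localization.AtPrime q
  let ι : B →ₗ[A] L := (IsScalarTower.toAlgHom A B L).toLinearMap
  have hone : (1 : B) ∉ q := fun h1 => Ideal.IsPrime.ne_top ‹_› (Ideal.eq_top_of_isUnit_mem _ h1 isUnit_one)
  have claim : ∀ w : Module.Dual A B ⊗[A] L, ∃ s : B, s ∉ q ∧ ∃ z : Module.Dual A B ⊗[A] B,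
      ∀ x, ι (dualTensorHom A B B z x) = algebraMap B L s * dualTensorHom A B L w x := by
    intro w
    induction w using TensorProduct.induction_on with
    | zero => exact ⟨1, hone, 0, fun x => by simp⟩
    | tmul φ l =>
      obtain ⟨⟨b, s⟩, hs⟩ := IsLocalization.surj q.primeCompl l
      refine ⟨s, s.2, φ ⊗ₜ b, fun x => ?_⟩
      rw [dualTensorHom_apply, dualTensorHom_apply, map_smul, mul_smul_comm, mul_comm, hs]
      rfl
    | add u v hu hv =>
      obtain ⟨s, hs, z, hz⟩ := hu
      obtain ⟨t, ht, y, hy⟩ := hv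
      refine ⟨s * t, fun h => (Ideal.IsPrime.mem_or_mem ‹_› h).elim hs ht,
        (LinearMap.mulLeft A t).lTensor _ z + (LinearMap.mulLeft A s).lTensor _ y, fun x => ?_⟩
      have hnat : ∀ (c : B) (z : Module.Dual A B ⊗[A] B),
          dualTensorHom A B B ((LinearMap.mulLeft A c).lTensor _ z) x = c * dualTensorHom A B B z x := by
        intro c z
        induction z using TensorProduct.induction_on with
        | zero => simp
        | tmul φ b => simp [mul_smul_comm]
        | add a b ha hb => simp only [map_add, LinearMap.add_apply, ha, hb, mul_add]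
      rw [map_add, LinearMap.add_apply, map_add, hnat, hnat, map_add, LinearMap.add_apply]
      show algebraMap B L (t * _) + algebraMap B L (s * _) = _
      rw [map_mul, map_mul, map_mul, show algebraMap B L (dualTensorHom A B B z x) = _ from hz x,
        show algebraMap B L (dualTensorHom A B B y x) = _ from hy x]
      ring
  obtain ⟨w, hw⟩ := (ComodDualEx.dualTensorHom_bijective_of_flat (k := A) (M := B) L).2 ι
  obtain ⟨s, hs, z, hz⟩ := claim w
  obtain ⟨gen, hgen⟩ := Module.Finite.fg_top (R := A) (M := B)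
  have ht : ∀ x : B, ∃ t : B, t ∉ q ∧ t * dualTensorHom A B B z x = t * (s * x) := by
    intro x
    have h1 := hz x
    rw [hw] at h1
    change algebraMap B L _ = algebraMap B L s * algebraMap B L x at h1
    rw [← map_mul] at h1
    obtain ⟨t, ht⟩ := IsLocalization.exists_of_eq (M := q.primeCompl) h1
    exact ⟨t, t.2, ht⟩
  choose t htq ht using ht
  let T := ∏ x ∈ gen, t x
  have hTq : T ∉ q := fun h => by
    obtain ⟨x, -, hx⟩ := (Ideal.IsPrime.prod_mem_iff (p := q)).1 h
    exact htq x hx
  have hall : ∀ x, T * dualTensorHom A B B z x = T * (s * x) := by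
    have hext : LinearMap.mulLeft A T ∘ₗ dualTensorHom A B B z = LinearMap.mulLeft A T ∘ₗ LinearMap.mulLeft A s := by
      refine LinearMap.ext_on hgen fun x hx => ?_
      show T * dualTensorHom A B B z x = T * (s * x)
      rw [show T = (∏ y ∈ gen.erase x, t y) * t x from (Finset.prod_erase_mul _ _ hx).symm, mul_assoc, ht,
        mul_assoc (∏ y ∈ gen.erase x, t y) (t x)]
    exact fun x => LinearMap.congr_fun hext x
  obtain ⟨S, hS⟩ := TensorProduct.exists_finset z
  refine ⟨T * s, fun h => (Ideal.IsPrime.mem_or_mem ‹_› h).elim hTq hs, S.card,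
    fun i => (S.equivFin.symm i).1.1, fun i => T * (S.equivFin.symm i).1.2, fun x => ?_⟩
  rw [mul_assoc, ← hall x, hS, map_sum, LinearMap.sum_apply, Finset.mul_sum]
  rw [S.equivFin.symm.sum_comp (fun p : S => p.1.1 x • (T * p.1.2))]
  rw [← Finset.sum_coe_sort S]
  refine Finset.sum_congr rfl fun p _ => ?_
  rw [dualTensorHom_apply, mul_smul_comm]

variable {A B A' B' : Type u} [CommRing A] [CommRing B] [CommRing A'] [CommRing B']
  [Algebra A B] [Algebra A A'] [Algebra B B'] [Algebra A' B'] [Algebra A B']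
  [IsScalarTower A A' B'] [IsScalarTower A B B'] (h : Algebra.IsPushout A A' B B')

include h in
theorem exists_inverse_of_isFactor (g : B) (hg : IsFactor A g) :
    ∃ Ψ : Disc.Omega A' B' →ₗ[B'] B' ⊗[B] Disc.Omega A B,
      (∀ ψ, cmp h (Ψ ψ) = algebraMap B B' (g * g) • ψ) ∧ ∀ y, Ψ (cmp h y) = algebraMap B B' (g * g) • y := by
  classical
  obtain ⟨n, φ, m, hφ⟩ := hg
  let Ψ₀ : Disc.Omega A' B' →+ B' ⊗[B] Disc.Omega A B :=
    AddMonoidHom.mk' (fun ψ => ∑ i, algebraMap A' B' (ψ.toLinearMap (algebraMap B B' (m i))) ⊗ₜ (⟨φ i⟩ : Disc.Omega A B))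
      (fun ψ χ => by simp [TensorProduct.add_tmul, Finset.sum_add_distrib])
  let F : Disc.Omega A' B' →+ (B' →ₗ[A'] A') := AddMonoidHom.mk' Disc.Omega.toLinearMap fun _ _ => rfl
  let G : Disc.Omega A B →+ (B →ₗ[A] A) := AddMonoidHom.mk' Disc.Omega.toLinearMap fun _ _ => rfl
  have h1 : ∀ ψ, cmp h (Ψ₀ ψ) = algebraMap B B' g • ψ := by
    intro ψ
    refine Disc.Omega.ext (h.out.algHom_ext _ _ fun x => ?_)
    simp only [Ψ₀, AddMonoidHom.mk'_apply, map_sum, cmp_tmul]
    show F (∑ i, _) (algebraMap B B' x) = ψ.toLinearMap (algebraMap B B' g * algebraMap B B' x)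
    rw [map_sum, LinearMap.sum_apply, ← map_mul, ← hφ x, map_sum, map_sum]
    refine Finset.sum_congr rfl fun i _ => ?_
    show (algebraMap A' B' _ • QFDual.bcFin h (⟨φ i⟩ : Disc.Omega A B)).toLinearMap _ = _
    rw [algebraMap_smul_toLinearMap, LinearMap.smul_apply, QFDual.bcFin_apply_algebraMap]
    rw [Algebra.smul_def (φ i x), map_mul, ← IsScalarTower.algebraMap_apply,
      IsScalarTower.algebraMap_apply A A' B', ← Algebra.smul_def, map_smul, smul_eq_mul, smul_eq_mul, mul_comm]
  have hsub : ∀ χ : Disc.Omega A B, g • χ = ∑ i, algebraMap A B (χ.toLinearMap (m i)) • (⟨φ i⟩ : Disc.Omega A B) := by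
    intro χ
    refine Disc.Omega.ext (LinearMap.ext fun x => ?_)
    show χ.toLinearMap (g * x) = G (∑ i, _) x
    rw [← hφ x, map_sum, map_sum, LinearMap.sum_apply]
    refine Finset.sum_congr rfl fun i _ => ?_
    show _ = (algebraMap A B _ • (⟨φ i⟩ : Disc.Omega A B)).toLinearMap x
    rw [algebraMap_smul_toLinearMap, LinearMap.smul_apply, map_smul, smul_eq_mul, smul_eq_mul, mul_comm]
  have h2 : ∀ y, Ψ₀ (cmp h y) = algebraMap B B' g • y := by
    intro y
    induction y using TensorProduct.induction_on with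
    | zero => simp
    | add u v hu hv => simp only [map_add, hu, hv, smul_add]
    | tmul b χ =>
      revert χ
      induction b using h.out.inductionOn with
      | zero => intro χ; simp
      | add u v hu hv => intro χ; simp only [TensorProduct.add_tmul, map_add, hu, hv, smul_add]
      | tmul x =>
        intro χ
        change Ψ₀ (cmp h (algebraMap B B' x ⊗ₜ χ)) = algebraMap B B' g • (algebraMap B B' x ⊗ₜ χ)
        have e : ((algebraMap B B' x) ⊗ₜ[B] χ : B' ⊗[B] Disc.Omega A B) = (1 : B') ⊗ₜ (x • χ) := by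
          rw [TensorProduct.tmul_smul, TensorProduct.smul_tmul', Algebra.smul_def, mul_one]
        rw [e, algebraMap_smul, ← TensorProduct.tmul_smul, hsub, cmp_tmul, one_smul, TensorProduct.tmul_sum]
        simp only [Ψ₀, AddMonoidHom.mk'_apply]
        refine Finset.sum_congr rfl fun i _ => ?_
        rw [QFDual.bcFin_apply_algebraMap, TensorProduct.tmul_smul, TensorProduct.smul_tmul', Algebra.smul_def,
          mul_one, ← IsScalarTower.algebraMap_apply A A' B', ← IsScalarTower.algebraMap_apply A B B']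
      | smul a u hu =>
        intro χ
        have e : ((a • u) ⊗ₜ[B] χ : B' ⊗[B] Disc.Omega A B) = algebraMap A' B' a • (u ⊗ₜ[B] χ) := by
          rw [TensorProduct.smul_tmul', smul_eq_mul, Algebra.smul_def]
        have hA : ∀ ψ, Ψ₀ (algebraMap A' B' a • ψ) = algebraMap A' B' a • Ψ₀ ψ := by
          intro ψ
          simp only [Ψ₀, AddMonoidHom.mk'_apply, Finset.smul_sum, algebraMap_smul_toLinearMap,
            LinearMap.smul_apply, smul_eq_mul, map_mul, TensorProduct.smul_tmul']
        rw [e, map_smul, hA, hu, smul_comm]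
  have hlin : ∀ (c : B') ψ, algebraMap B B' g • Ψ₀ (c • ψ) = c • (algebraMap B B' g • Ψ₀ ψ) := by
    intro c ψ
    have e : cmp h (c • Ψ₀ ψ) = cmp h (Ψ₀ (c • ψ)) := by rw [map_smul, h1, h1, smul_comm]
    have := congrArg Ψ₀ e
    rw [h2, h2] at this
    rw [← this, smul_comm]
  refine ⟨{ toFun := fun ψ => algebraMap B B' g • Ψ₀ ψ
            map_add' := fun ψ χ => by rw [map_add, smul_add]
            map_smul' := hlin }, fun ψ => ?_, fun y => ?_⟩
  · show cmp h (algebraMap B B' g • Ψ₀ ψ) = _
    rw [map_smul, h1, smul_smul, map_mul]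
  · show algebraMap B B' g • Ψ₀ (cmp h y) = _
    rw [h2, smul_smul, map_mul]

include h in
theorem omegaBC_bijective_of_isFactor {B₁ : Type u} [CommRing B₁] [Algebra B' B₁] [Algebra B B₁]
    [IsScalarTower B B' B₁]
    (hF : ∀ P : Ideal B₁, P.IsPrime → ∃ g : B, algebraMap B B₁ g ∉ P ∧ IsFactor A g) :
    Function.Bijective (QFDual.omegaBC (B₁ := B₁) h) := by
  let Λ := (cmp h).baseChange B₁
  let c := TensorProduct.AlgebraTensorModule.cancelBaseChange B B' B₁ B₁ (Disc.Omega A B)
  have hfac : ∀ x, QFDual.omegaBC (B₁ := B₁) h x = Λ (c.symm x) := by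
    intro x
    induction x using TensorProduct.induction_on with
    | zero => simp
    | tmul b φ =>
      rw [QFDual.omegaBC_tmul, TensorProduct.AlgebraTensorModule.cancelBaseChange_symm_tmul,
        LinearMap.baseChange_tmul, cmp_tmul, one_smul]
    | add x y hx hy => simp only [map_add, hx, hy]
  suffices H : Function.Bijective Λ by
    rw [show ⇑(QFDual.omegaBC (B₁ := B₁) h) = Λ ∘ c.symm from funext hfac]
    exact H.comp c.symm.bijective
  have hinv : ∀ g : B, IsFactor A g → ∃ Φ : B₁ ⊗[B'] Disc.Omega A' B' →ₗ[B₁] B₁ ⊗[B'] (B' ⊗[B] Disc.Omega A B),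
      (∀ ψ, Λ (Φ ψ) = algebraMap B B₁ (g * g) • ψ) ∧ ∀ y, Φ (Λ y) = algebraMap B B₁ (g * g) • y := by
    intro g hg
    obtain ⟨Ψ, hΨ1, hΨ2⟩ := exists_inverse_of_isFactor h g hg
    refine ⟨Ψ.baseChange B₁, fun ψ => ?_, fun y => ?_⟩
    · induction ψ using TensorProduct.induction_on with
      | zero => simp
      | tmul b ψ =>
        rw [LinearMap.baseChange_tmul, LinearMap.baseChange_tmul, hΨ1, TensorProduct.tmul_smul,
          IsScalarTower.algebraMap_apply B B' B₁, algebraMap_smul B₁ (algebraMap B B' (g * g))]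
      | add u v hu hv => simp only [map_add, hu, hv, smul_add]
    · induction y using TensorProduct.induction_on with
      | zero => simp
      | tmul b y =>
        rw [LinearMap.baseChange_tmul, LinearMap.baseChange_tmul, hΨ2, TensorProduct.tmul_smul,
          IsScalarTower.algebraMap_apply B B' B₁, algebraMap_smul B₁ (algebraMap B B' (g * g))]
      | add u v hu hv => simp only [map_add, hu, hv, smul_add]
  have key : ∀ I : Ideal B₁, (∀ g : B, IsFactor A g → algebraMap B B₁ (g * g) ∈ I) → (1 : B₁) ∈ I := by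
    intro I hI
    by_contra hI1
    obtain ⟨P, hP, hIP⟩ := Ideal.exists_le_maximal I fun e => hI1 (e ▸ Submodule.mem_top)
    obtain ⟨g, hgP, hg⟩ := hF P hP.isPrime
    have := hIP (hI g hg)
    rw [map_mul] at this
    exact hgP ((hP.isPrime.mem_or_mem this).elim id id)
  refine ⟨(injective_iff_map_eq_zero Λ).2 fun y hy => ?_, fun ψ => ?_⟩
  · have := key ((LinearMap.toSpanSingleton B₁ _ y).ker) fun g hg => by
      obtain ⟨Φ, -, hΦ⟩ := hinv g hg
      rw [LinearMap.mem_ker, LinearMap.toSpanSingleton_apply, ← hΦ, hy, map_zero]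
    simpa using this
  · have := key (Submodule.comap (LinearMap.toSpanSingleton B₁ _ ψ) (LinearMap.range Λ)) fun g hg => by
      obtain ⟨Φ, hΦ, -⟩ := hinv g hg
      rw [Submodule.mem_comap, LinearMap.toSpanSingleton_apply, ← hΦ]
      exact LinearMap.mem_range_self _ _
    simpa using this

end Groth.Agent.QFDualLib
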